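import Cfsg.Agent.H891.DG.Defs
import Cfsg.Agent.KFacts.RgdFiltClass

/-!
# S4180, task K1a: `Rk2` for the classical groups (helper748)
-/

set_option autoImplicit false
set_option linter.unusedSectionVars false

namespace Cfsg.Agent.H748.DG

open Cfsg Cfsg.Agent.ChevalleyStructure.CoxeterGeom Cfsg.Agent.Tits.Roots
open Cfsg.Agent.Nodes.Comb Cfsg.Agent.Nodes.Reps Cfsg.Agent.Nodes.WittRoot Cfsg.Agent.Nodes.BNOf
open Cfsg.Agent.Nodes.RGDLib Cfsg.Agent.Nodes.WittAll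
open Cfsg.Agent.TitsThree Cfsg.Agent.TitsThree.Siegel Cfsg.Agent.TitsThree.WittFrame
  Cfsg.Agent.TitsThree.WittWeyl Cfsg.Agent.TitsThree.FrameCN
open Cfsg.Agent.KFacts.RgdBorelTits Cfsg.Agent.KFacts.RgdFilt Cfsg.Agent.KFacts.RgdFiltWitt
open Cfsg.Agent.H891.DG (Rk2)

universe u v

theorem rk2_of_equiv {r : ℕ} {S : Type v} {T : Type u} [Group S] [Group T] (e : S ≃* T) (hS : Rk2 r S) :
    Rk2 r T := by
  obtain ⟨l, M, A, h, H, n, X, hl, hW, R, hX⟩ := hS
  refine ⟨l, M, A, h, H.map e.toMonoidHom, fun i => e (n i), fun x => (X x).map e.toMonoidHom, hl, hW,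
    Nodes.RGDLib.rgd_map_of_injective R e.toMonoidHom e.injective, ?_⟩
  have h1 : (Nodes.RGDLib.G1 M.toCoxeterSystem h X).map e.toMonoidHom =
      Nodes.RGDLib.G1 M.toCoxeterSystem h (fun x => (X x).map e.toMonoidHom) := by
    unfold Nodes.RGDLib.G1 RGD.Sup
    rw [Subgroup.map_iSup]
  rw [← h1, hX, Subgroup.map_top_of_surjective _ e.surjective]

/-! ### type `C` -/

section TypeC

open Cfsg.Agent.Nodes.TypeC

variable {F : Type*} [Field F] {V : Type*} [AddCommGroup V] [Module F V] {H : HForm F V} {n : ℕ}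
  {Fr : Frame H (Fin n)} {K : Type*} [Group K] (M : Model Fr K) {p : ℕ}

theorem rk2_C (hA : AmbT Fr p M.I) [Finite V] [Fact p.Prime] [CharP F p] {p0 : Fr.Adm} (hp0 : p0.c ≠ 0)
    (hn : 2 ≤ n) : Rk2 p K :=
  ⟨n, CoxeterMatrix.B n, A n, isCartan n, _, _, _, hn, finite_W (CoxeterMatrix.B n).toCoxeterSystem,
    rgdC_model M hA hp0 _, Nodes.WittModel.G1_eq_top _ (by omega) _⟩

end TypeC

theorem rk2_PSL {F : Type*} [Field F] [Finite F] (n : ℕ) (hn : 2 ≤ n) {p : ℕ} [Fact p.Prime] [CharP F p] :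
    Rk2 p (Matrix.ProjectiveSpecialLinearGroup (Fin (n + 1)) F) := by
  have hW : Finite (Cfsg.Agent.LieRecognition.BNCox.cA n).Group :=
    Nodes.RootsA.finite_W (Cfsg.Agent.LieRecognition.BNCox.cA n).toCoxeterSystem (Nodes.RootsA.isCartan n)
  exact ⟨n, Cfsg.Agent.LieRecognition.BNCox.cA n, _, Nodes.RootsA.isCartan n, _, _, _, hn, hW,
    Nodes.RGDTypeA.rgd_psl _ _, Nodes.RGDTypeA.G1_psl_eq_top _ _⟩

open Cfsg.Agent.Nodes.WittU Cfsg.Agent.Nodes.WittInst

theorem rk2_PSU {F : Type*} [Field F] [Fintype F] {q N : ℕ} (hF : Fintype.card F = q ^ 2) (hN : 4 ≤ N) {p : ℕ}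
    [Fact p.Prime] [CharP F p] : Rk2 p (PSU N F q) := by
  obtain ⟨m, hm⟩ : ∃ m, N = 2 * m ∨ N = 2 * m + 1 := ⟨N / 2, by omega⟩
  obtain ⟨W, -⟩ := exists_wframe hF hm
  obtain ⟨p0, hp0, -⟩ := exists_adm hF W
  exact rk2_C (KInstU.model hF (by omega) W) (AmbT.of_amb (amb_U hF W) p) hp0 (by omega)

theorem rk2_PSp {F : Type*} [Field F] [Finite F] {m : ℕ} (hm : 2 ≤ m) {p : ℕ}
    [Fact p.Prime] [CharP F p] : Rk2 p (PSp m F) :=
  rk2_C (KInstSp.model m F) (AmbT.of_amb amb_Sp p) (p0 := SpIdent.adm 1) one_ne_zero hm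

/-! ### Orthogonal groups -/

section Orthogonal

open QuadraticMap
open Cfsg.Agent.LieClassical Cfsg.Agent.LieClassical.OrthCore Cfsg.Agent.LieClassical.OrthTrans
open Cfsg.Agent.LieClassical.OrthSimple Cfsg.Agent.LieClassical.OrthFinite
open Cfsg.Agent.LieClassical.OrthForms
open Cfsg.Agent.TitsThree.WBridge Cfsg.Agent.TitsThree.KSideO Cfsg.Agent.TitsThree.StdData

variable {F : Type*} [Field F] {m : ℕ}

theorem rk2_PO_odd [Finite F] (h2 : (2 : F) ≠ 0) (hm : 2 ≤ m) {p : ℕ} [Fact p.Prime] [CharP F p] :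
    Rk2 p (Cfsg.POmega F (Cfsg.quadFormOdd m F)) := by
  rw [← coe_oddForm]
  have hG : Good (oddForm m F) := by
    apply good_of_finite (nondeg_oddForm m F h2)
    rw [Module.finrank_fintype_fun_eq_card, Fintype.card_sum, Fintype.card_sum, Fintype.card_fin,
      Fintype.card_unit]
    omega
  have hp : ((embOdd m F).ngt ⟨1, -1 ^ 2, rfl⟩).c ≠ 0 := by
    change (1 : F)⁻¹ * (-1 ^ 2) ≠ 0
    simp
  exact rk2_C (model (wodd m F) hG ⟨_, hp⟩) (AmbT.of_amb (amb_O_of_two _ h2) p) hp (by omega)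

theorem rk2_PO_minus [Finite F] (a b : F)
    (hab : ∀ z₁ z₂ : F, z₁ ^ 2 + a * z₁ * z₂ + b * z₂ ^ 2 = 0 → z₁ = 0 ∧ z₂ = 0)
    (hm : 2 ≤ m) {p : ℕ} [Fact p.Prime] [CharP F p] :
    Rk2 p (Cfsg.POmega F (Cfsg.quadFormMinus m F a b)) := by
  rw [← coe_minusForm]
  have hG : Good (minusForm m F a b) := by
    apply good_of_finite (nondeg_minusForm m F a b hab)
    rw [Module.finrank_fintype_fun_eq_card, Fintype.card_sum, Fintype.card_sum, Fintype.card_fin,
      Fintype.card_fin]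
    omega
  have hp : ((embMinus m F a b hab).ngt ⟨(1, 0), -nf a b (1, 0), rfl⟩).c ≠ 0 := by
    change (1 : F)⁻¹ * (-nf a b (1, 0)) ≠ 0
    simp [nf]
  have hA : AmbT (toFrame (wminus m F a b hab)) p (E (minusForm m F a b)) := by
    by_cases h2 : (2 : F) = 0
    · have hp2 : p = 2 := by
        have h3 : CharP F 2 := CharTwo.of_one_ne_zero_of_two_eq_zero one_ne_zero h2
        exact CharP.eq F ‹CharP F p› h3
      subst hp2
      exact ambT_O _ fun g hg hg2 hb => fixp_minus a b hab h2 hm hG hg hg2 hb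
    · exact AmbT.of_amb (amb_O_of_two _ h2) p
  exact rk2_C (model (wminus m F a b hab) hG ⟨_, hp⟩) hA hp (by omega)

theorem rk2_PO_plus [Finite F] (n : ℕ) {p : ℕ} [Fact p.Prime] [CharP F p] :
    Rk2 p (Cfsg.POmega F (Cfsg.quadFormPlus (n + 3) F)) := by
  rw [← coe_plusForm]
  have hG : Good (plusForm (n + 3) F) := by
    apply good_of_finite (nondeg_plusForm (n + 3) F)
    rw [Module.finrank_fintype_fun_eq_card, Fintype.card_sum, Fintype.card_fin]
    omega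
  exact ⟨n + 1 + 2, Nodes.TypeD.M (n + 1), _, _, _, _, _, by omega,
    Nodes.TypeD.finite_W (Nodes.TypeD.M (n + 1)).toCoxeterSystem,
    rgdD_model (wplus (n + 3) F) hG (amb_plus _) (adm_plus _) _,
    G1D_eq_top (wplus (n + 3) F) (toPOmega hG) (toPOmega_surjective hG) (adm_plus _) _⟩

end Orthogonal

/-! ### The rows -/

section Rows

open Cfsg.Agent.Nodes.RGDClass (fact_prime)

variable {r : ℕ} {T : Type u} [Group T]

theorem rk2_psl {F : Type} [Field F] [Fintype F] [CharP F r] {n : ℕ} (hn : 3 ≤ n)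
    (h : Nonempty (T ≃* Matrix.ProjectiveSpecialLinearGroup (Fin n) F)) : Rk2 r T := by
  have : Fact r.Prime := fact_prime (F := F)
  obtain ⟨e⟩ := h
  obtain ⟨n, rfl⟩ : ∃ k, n = k + 1 := ⟨n - 1, by omega⟩
  exact rk2_of_equiv e.symm (rk2_PSL n (by omega))

theorem rk2_psp {F : Type} [Field F] [Fintype F] [CharP F r] {m : ℕ} (hm : 2 ≤ m)
    (h : Nonempty (T ≃* PSp m F)) : Rk2 r T := by
  have : Fact r.Prime := fact_prime (F := F)
  obtain ⟨e⟩ := h
  exact rk2_of_equiv e.symm (rk2_PSp hm)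

theorem rk2_psu {F : Type} [Field F] [Fintype F] [CharP F r] {n q : ℕ} (hF : Fintype.card F = q ^ 2) (hn : 4 ≤ n)
    (h : Nonempty (T ≃* PSU n F q)) : Rk2 r T := by
  have : Fact r.Prime := fact_prime (F := F)
  obtain ⟨e⟩ := h
  exact rk2_of_equiv e.symm (rk2_PSU hF hn)

theorem rk2_odd {F : Type} [Field F] [Fintype F] [CharP F r] {m : ℕ} (hm : 2 ≤ m) (hodd : Odd (Fintype.card F))
    (h : Nonempty (T ≃* POmega F (quadFormOdd m F))) : Rk2 r T := by
  have : Fact r.Prime := fact_prime (F := F)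
  obtain ⟨e⟩ := h
  have h2 : (2 : F) ≠ 0 := by
    intro h2
    have h3 : CharP F 2 := CharTwo.of_one_ne_zero_of_two_eq_zero one_ne_zero h2
    obtain ⟨k, -, hk⟩ := FiniteField.card F 2
    rw [hk] at hodd
    exact absurd hodd (by
      rw [Nat.not_odd_iff_even]
      exact (even_two).pow_of_ne_zero k.ne_zero)
  exact rk2_of_equiv e.symm (rk2_PO_odd h2 hm)

theorem rk2_plus {F : Type} [Field F] [Fintype F] [CharP F r] {m : ℕ} (hm : 3 ≤ m)
    (h : Nonempty (T ≃* POmega F (quadFormPlus m F))) : Rk2 r T := by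
  have : Fact r.Prime := fact_prime (F := F)
  obtain ⟨e⟩ := h
  obtain ⟨n, rfl⟩ : ∃ n, m = n + 3 := ⟨m - 3, by omega⟩
  exact rk2_of_equiv e.symm (rk2_PO_plus n)

theorem rk2_minus {F : Type} [Field F] [Fintype F] [CharP F r] {m : ℕ} {a b : F} (hm : 3 ≤ m)
    (hab : ∀ z₁ z₂ : F, z₁ ^ 2 + a * z₁ * z₂ + b * z₂ ^ 2 = 0 → z₁ = 0 ∧ z₂ = 0)
    (h : Nonempty (T ≃* POmega F (quadFormMinus (m - 1) F a b))) : Rk2 r T := by
  have : Fact r.Prime := fact_prime (F := F)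
  obtain ⟨e⟩ := h
  exact rk2_of_equiv e.symm (rk2_PO_minus a b hab (by omega))

/-! ### the predicates of `Def_LieTypeChar` and `Def_Classical` -/

theorem rk2_psp_char (h : IsPSpChar r T) : Rk2 r T := by
  obtain ⟨F, _, _, _, m, hm, -, e⟩ := h
  exact rk2_psp hm e

theorem rk2_odd_char (h : IsPOmegaOddChar r T) : Rk2 r T := by
  obtain ⟨F, _, _, _, m, hm, hodd, e⟩ := h
  exact rk2_odd (by omega) hodd e

theorem rk2_plus_char (h : IsPOmegaPlusChar r T) : Rk2 r T := by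
  obtain ⟨F, _, _, _, m, hm, e⟩ := h
  exact rk2_plus (by omega) e

theorem rk2_minus_char (h : IsPOmegaMinusChar r T) : Rk2 r T := by
  obtain ⟨F, _, _, _, m, a, b, hm, hab, e⟩ := h
  exact rk2_minus (by omega) hab e

end Rows

end Cfsg.Agent.H748.DG
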